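import Mathlib
import Cfsg.Prelude.Def_GeometricClasses

/-!
# Project ASC : maximal subgroups of `SL_r(q)`, `r` an odd prime (S5775, S5793, S5808, S5853)

Vocabulary shared by all pieces, and the three trivial pieces MAXP, COMN, MIN.
-/

set_option autoImplicit false

namespace Cfsg.Agent.Lib.Helper27.ASC

open Cfsg Cfsg.Geo
open scoped MatrixGroups Matrix

/-- `N` is a subgroup of `H` normalised by `H`. -/
def NormalIn {G : Type*} [Group G] (N H : Subgroup G) : Prop :=
  N ≤ H ∧ ∀ h ∈ H, ∀ x ∈ N, h * x * h⁻¹ ∈ N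

/-- MAXP : a maximal subgroup `H` of `S` contained in `K` with `S ≰ K` equals `K ⊓ S`. -/
theorem max_principle {G : Type*} [Group G] {S H K : Subgroup G} (hH : IsMaximalIn S H) (hHK : H ≤ K)
    (hK : ¬ S ≤ K) : H = K ⊓ S := by
  rcases hH.2 (K ⊓ S) (le_inf hHK hH.1.le) inf_le_right with h | h
  · exact h.symm
  · exact absurd (h ▸ inf_le_left : S ≤ K) hK

/-- COMN -/
theorem commutator_normalIn {G : Type*} [Group G] {N H : Subgroup G} (hN : NormalIn N H) :
    NormalIn ⁅N, N⁆ H := by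
  refine ⟨(Subgroup.commutator_le_self N).trans hN.1, fun h hh x hx => ?_⟩
  have key : ∀ x ∈ ⁅N, N⁆, (MulAut.conj h) x ∈ ⁅N, N⁆ := by
    intro x hx
    have h1 : (⁅N, N⁆).map (MulAut.conj h).toMonoidHom ≤ ⁅N, N⁆ := by
      rw [Subgroup.map_commutator]
      have h2 : N.map (MulAut.conj h).toMonoidHom ≤ N := by
        rintro _ ⟨y, hy, rfl⟩
        exact hN.2 h hh y hy
      exact Subgroup.commutator_mono h2 h2
    exact h1 ⟨x, hx, rfl⟩
  simpa [MulAut.conj_apply] using key x hx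

variable {n : ℕ} {F : Type*} [Field F]

/-- irreducible -/
abbrev Irr (N : Subgroup (GL (Fin n) F)) : Prop := ActsIrreducibly (matrixSet N)

/-- absolutely irreducible -/
abbrev AbsIrr (N : Subgroup (GL (Fin n) F)) : Prop := ActsAbsolutelyIrreducibly (matrixSet N)

/-- the centraliser algebra of `N` in the matrix algebra -/
abbrev centAlg (N : Subgroup (GL (Fin n) F)) : Subalgebra F (Matrix (Fin n) (Fin n) F) :=
  Subalgebra.centralizer F (matrixSet N)

/-- every subgroup of `H` normalised by `H` is scalar or absolutely irreducible -/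
def AllNormalAbsIrr (H : Subgroup (GL (Fin n) F)) : Prop :=
  ∀ N : Subgroup (GL (Fin n) F), NormalIn N H → N ≤ scalars (Fin n) F ∨ AbsIrr N

/-- `N` is minimal among the non-scalar subgroups normalised by `H`. -/
def MinNonscalar (N H : Subgroup (GL (Fin n) F)) : Prop :=
  NormalIn N H ∧ ¬ N ≤ scalars (Fin n) F ∧
    ∀ M : Subgroup (GL (Fin n) F), NormalIn M H → M ≤ N → M ≤ scalars (Fin n) F ∨ M = N

/-- Heisenberg data: `N` is generated modulo the scalars `ω ^ k` by `x, y` of order `r` with `x y = ω y x`. -/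
structure HeisData (r : ℕ) (N : Subgroup (GL (Fin r) F)) (x y : GL (Fin r) F) (ω : F) : Prop where
  hx : x ∈ N
  hy : y ∈ N
  hω1 : ω ≠ 1
  hωr : ω ^ r = 1
  comm : (x : Matrix (Fin r) (Fin r) F) * (y : Matrix (Fin r) (Fin r) F) =
    ω • ((y : Matrix (Fin r) (Fin r) F) * (x : Matrix (Fin r) (Fin r) F))
  xr : x ^ r = 1
  yr : y ^ r = 1
  gen : ∀ g ∈ N, ∃ i j k : ℕ, (g : Matrix (Fin r) (Fin r) F) =
    (ω ^ k) • ((x : Matrix (Fin r) (Fin r) F) ^ i * (y : Matrix (Fin r) (Fin r) F) ^ j)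

/-- MIN : a minimal non-scalar subgroup normalised by `H` exists. -/
theorem exists_minNonscalar [Fintype F] (H : Subgroup (GL (Fin n) F)) (hH : ¬ H ≤ scalars (Fin n) F) :
    ∃ N : Subgroup (GL (Fin n) F), MinNonscalar N H := by
  classical
  have hfin : Finite (Subgroup (GL (Fin n) F)) := inferInstance
  let S : Set (Subgroup (GL (Fin n) F)) := {N | NormalIn N H ∧ ¬ N ≤ scalars (Fin n) F}
  have hS : S.Nonempty := ⟨H, ⟨le_refl H, fun h hh x hx => H.mul_mem (H.mul_mem hh hx) (H.inv_mem hh)⟩, hH⟩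
  obtain ⟨N, hN, hmin⟩ := Set.Finite.exists_minimal (Set.toFinite S) hS
  refine ⟨N, hN.1, hN.2, fun M hM hMN => ?_⟩
  by_cases hMs : M ≤ scalars (Fin n) F
  · exact Or.inl hMs
  · exact Or.inr (le_antisymm hMN (hmin ⟨hM, hMs⟩ hMN))

end Cfsg.Agent.Lib.Helper27.ASC
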